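import Groth.Agent.Lib.IdealDescFpqc.Main
import Groth.Agent.Lib.AlgSp.ClosedDescent
import Groth.Agent.Lib.MagnetClosed25.Basic
import Groth.Prelude.Def_Magnet3
import Mathlib.AlgebraicGeometry.Morphisms.Etale
import Mathlib.AlgebraicGeometry.Morphisms.Flat

/-! # The fixed locus descends along a fixed point reflecting étale atlas -/

set_option autoImplicit false
set_option backward.isDefEq.respectTransparency false

universe u

open CategoryTheory CategoryTheory.Limits AlgebraicGeometry MonoidalCategory CartesianMonoidalCategory Opposite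

noncomputable section

namespace GrothLib.MagnetFix

open Magnet

variable {S : Scheme.{u}} {A X U : Over S} [MonObj A]

/-- Fixed points. -/
def IsFixed (a : MonAct A X) {T : Over S} (x : T ⟶ X) : Prop :=
  ∀ (T' : Over S) (t : T' ⟶ T) (g : T' ⟶ A), lift g (t ≫ x) ≫ a.act = t ≫ x

theorem IsFixed.comp {a : MonAct A X} {T T' : Over S} {x : T ⟶ X} (h : IsFixed a x) (c : T' ⟶ T) :
    IsFixed a (c ≫ x) := fun T'' t g => by
  rw [← Category.assoc]; exact h T'' (t ≫ c) g

/-- Being fixed can be checked after an étale surjective base change. -/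
theorem IsFixed.of_cover {a : MonAct A X} {T T' : Over S} {x : T ⟶ X} (c : T' ⟶ T) [Etale c.left] [Surjective c.left]
    (h : IsFixed a (c ≫ x)) : IsFixed a x := by
  intro T'' t g
  let P : Over S := Over.mk (pullback.fst t.left c.left ≫ T''.hom)
  let p : P ⟶ T'' := Over.homMk (pullback.fst t.left c.left) rfl
  let q : P ⟶ T' := Over.homMk (pullback.snd t.left c.left) (by
    rw [← Over.w c, ← pullback.condition_assoc, Over.w t]; rfl)
  haveI : Etale p.left := MorphismProperty.pullback_fst _ _ inferInstance
  haveI : Surjective p.left := MorphismProperty.pullback_fst _ _ inferInstance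
  haveI : Epi p.left := Flat.epi_of_flat_of_surjective _
  haveI : Epi p := (Over.forget S).epi_of_epi_map (inferInstanceAs (Epi p.left))
  have hpq : p ≫ t = q ≫ c := Over.OverMorphism.ext pullback.condition
  rw [← cancel_epi p, comp_lift_assoc, ← Category.assoc, hpq, Category.assoc]
  exact h P q (p ≫ g)

/-- The closed subscheme of an ideal sheaf, over `S`. -/
abbrev sub (I : X.left.IdealSheafData) : Over S := Over.mk (I.subschemeι ≫ X.hom)

/-- Its inclusion. -/
abbrev subι (I : X.left.IdealSheafData) : sub I ⟶ X := Over.homMk I.subschemeι rfl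

/-- Descent of the fixed locus. -/
theorem exists_fixed_ideal (aX : MonAct A X) (aU : MonAct A U) (f : U ⟶ X) [Etale f.left] [Surjective f.left]
    (hfix : ∀ (T : Over S) (u : T ⟶ U), IsFixed aU u ↔ IsFixed aX (u ≫ f))
    (I : U.left.IdealSheafData) (hI : ∀ (T : Over S) (u : T ⟶ U), IsFixed aU u ↔ I ≤ u.left.ker) :
    ∃ J : X.left.IdealSheafData, ∀ (T : Over S) (x : T ⟶ X), IsFixed aX x ↔ J ≤ x.left.ker := by
  let R : Over S := Over.mk (pullback.fst f.left f.left ≫ U.hom)
  let p₁ : R ⟶ U := Over.homMk (pullback.fst f.left f.left) rfl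
  let p₂ : R ⟶ U := Over.homMk (pullback.snd f.left f.left) (by
    change pullback.snd f.left f.left ≫ U.hom = pullback.fst f.left f.left ≫ U.hom
    rw [← Over.w f, pullback.condition_assoc])
  have hp : p₁ ≫ f = p₂ ≫ f := Over.OverMorphism.ext pullback.condition
  have hle : ∀ (q q' : R ⟶ U), q ≫ f = q' ≫ f → I.comap q'.left ≤ I.comap q.left := by
    intro q q' hq
    let K := I.comap q.left
    have h1 : I ≤ (subι K ≫ q).left.ker := by
      rw [Over.comp_left, Scheme.Hom.ker_comp]
      change I ≤ (K.subschemeι.ker).map q.left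
      rw [K.ker_subschemeι, Scheme.IdealSheafData.le_map_iff_comap_le]
    have h2 : I ≤ (subι K ≫ q').left.ker := by
      rw [← hI, hfix, Category.assoc, ← hq, ← Category.assoc, ← hfix, hI]
      exact h1
    rw [Over.comp_left, Scheme.Hom.ker_comp] at h2
    change I ≤ (K.subschemeι.ker).map q'.left at h2
    rw [K.ker_subschemeι, Scheme.IdealSheafData.le_map_iff_comap_le] at h2
    exact h2
  have hc : I.comap (pullback.fst f.left f.left) = I.comap (pullback.snd f.left f.left) :=
    le_antisymm (hle p₂ p₁ hp.symm) (hle p₁ p₂ hp)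
  have hqc : QuasiCompactCover (PreZeroHypercover.mk PUnit.{u + 1} (fun _ => U.left) fun _ => f.left :
      PreZeroHypercover X.left) :=
    ⟨fun {V} hV => IsCompactOpenCovered.of_isOpenMap (fun _ => f.left.continuous) (fun _ => f.left.isOpenMap)
      (fun x _ => ⟨⟨⟩, f.left.surjective x⟩) V.2 hV.isCompact⟩
  obtain ⟨J, hJ, -⟩ := IdealDescFpqc.existsUnique (fun _ : PUnit.{u + 1} => f.left) (fun _ => I) hqc
    (fun _ => inferInstance) (fun _ _ => hc)
  have hJ' : J.comap f.left = I := hJ ⟨⟩
  refine ⟨J, fun T x => ?_⟩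
  let T' : Over S := Over.mk (pullback.fst x.left f.left ≫ T.hom)
  let c : T' ⟶ T := Over.homMk (pullback.fst x.left f.left) rfl
  let v : T' ⟶ U := Over.homMk (pullback.snd x.left f.left) (by
    rw [← Over.w f, ← pullback.condition_assoc, Over.w x]; rfl)
  haveI : Etale c.left := MorphismProperty.pullback_fst _ _ inferInstance
  haveI : Surjective c.left := MorphismProperty.pullback_fst _ _ inferInstance
  have hcv : c ≫ x = v ≫ f := Over.OverMorphism.ext pullback.condition
  have key : J ≤ x.left.ker ↔ I ≤ v.left.ker := by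
    rw [← AlgSp.ker_comp_of_etale_surjective c.left, ← Over.comp_left, hcv, Over.comp_left, Scheme.Hom.ker_comp,
      Scheme.IdealSheafData.le_map_iff_comap_le, hJ']
  constructor
  · intro h
    rw [key, ← hI, hfix, ← hcv]
    exact h.comp c
  · intro h
    rw [key, ← hI, hfix, ← hcv] at h
    exact IsFixed.of_cover c h

end GrothLib.MagnetFix
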